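import Mathlib
import Groth.Prelude.Def_W4c3tautjacobianRel

/-!
# The operators `E`, `F` of the formal relation ring: degrees and commutator
-/

namespace Groth.Agent.TautJac

open MvPolynomial W4c3tautjacobian

variable {g : ℕ}

/-- Bihomogeneity with integer bidegree. -/
def Hm (g : ℕ) (P : RelRing g) (a b : ℤ) : Prop :=
  ∀ d, coeff d P ≠ 0 →
    ((Finsupp.weight (wt g) d).1 : ℤ) = a ∧ ((Finsupp.weight (wt g) d).2 : ℤ) = b

theorem Hm.zero (a b : ℤ) : Hm g 0 a b := fun d h => absurd (coeff_zero d) h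

theorem Hm.add {P Q : RelRing g} {a b : ℤ} (hP : Hm g P a b) (hQ : Hm g Q a b) : Hm g (P + Q) a b := by
  intro d h
  rw [coeff_add] at h
  by_cases h1 : coeff d P = 0
  · exact hQ d (by rwa [h1, zero_add] at h)
  · exact hP d h1

theorem Hm.smul {P : RelRing g} {a b : ℤ} (c : ℚ) (hP : Hm g P a b) : Hm g (c • P) a b := by
  intro d h
  rw [coeff_smul] at h
  exact hP d (right_ne_zero_of_smul h)

theorem Hm.neg {P : RelRing g} {a b : ℤ} (hP : Hm g P a b) : Hm g (-P) a b := by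
  intro d h
  exact hP d (by simpa using h)

theorem Hm.sub {P Q : RelRing g} {a b : ℤ} (hP : Hm g P a b) (hQ : Hm g Q a b) : Hm g (P - Q) a b := by
  rw [sub_eq_add_neg]; exact hP.add hQ.neg

theorem Hm.sum {ι : Type*} (s : Finset ι) (P : ι → RelRing g) {a b : ℤ} (h : ∀ i ∈ s, Hm g (P i) a b) :
    Hm g (∑ i ∈ s, P i) a b := by
  classical
  induction s using Finset.induction_on with
  | empty => simpa using Hm.zero a b
  | insert i s hi ih =>
    rw [Finset.sum_insert hi]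
    exact (h i (Finset.mem_insert_self _ _)).add (ih fun j hj => h j (Finset.mem_insert_of_mem hj))

theorem Hm.mul {P Q : RelRing g} {a b a' b' : ℤ} (hP : Hm g P a b) (hQ : Hm g Q a' b') :
    Hm g (P * Q) (a + a') (b + b') := by
  classical
  intro d h
  rw [coeff_mul] at h
  obtain ⟨x, hx, hne⟩ := Finset.exists_ne_zero_of_sum_ne_zero h
  rw [Finset.HasAntidiagonal.mem_antidiagonal] at hx
  obtain ⟨h1, h2⟩ := hP x.1 (left_ne_zero_of_mul hne)
  obtain ⟨h3, h4⟩ := hQ x.2 (right_ne_zero_of_mul hne)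
  rw [← hx, map_add, Prod.fst_add, Prod.snd_add, Nat.cast_add, Nat.cast_add, h1, h2, h3, h4]
  exact ⟨rfl, rfl⟩

theorem Hm.C (c : ℚ) : Hm g (MvPolynomial.C c) 0 0 := by
  classical
  intro d h
  rw [coeff_C] at h
  split_ifs at h with hd
  · subst hd; simp
  · exact absurd rfl h

theorem Hm.natCast (n : ℕ) : Hm g (n : RelRing g) 0 0 := by
  rw [← map_natCast (MvPolynomial.C : ℚ →+* RelRing g)]; exact Hm.C _

theorem Hm.X (v : Var g) : Hm g (MvPolynomial.X v) ((wt g v).1 : ℤ) ((wt g v).2 : ℤ) := by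
  classical
  intro d h
  rw [coeff_X] at h
  split_ifs at h with hd
  · subst hd; simp [Finsupp.weight_single]
  · exact absurd rfl h

theorem Hm.xv (i j : ℤ) : Hm g (W4c3tautjacobian.xv g i j) i j := by
  unfold W4c3tautjacobian.xv
  split_ifs with h1 h2
  · rw [h1.1, h1.2]; exact Hm.natCast g
  · have := Hm.X (g := g) (some ⟨(i.toNat, j.toNat), h2.2.2⟩)
    simpa [wt, h2.1, h2.2.1] using this
  · exact Hm.zero i j

theorem Hm.dv {P : RelRing g} {a b : ℤ} (hP : Hm g P a b) (p : ℕ × ℕ) :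
    Hm g (W4c3tautjacobian.dv g p P) (a - p.1) (b - p.2) := by
  unfold W4c3tautjacobian.dv
  split_ifs with h
  · intro d hd
    rw [coeff_pderiv] at hd
    obtain ⟨h1, h2⟩ := hP _ (left_ne_zero_of_mul hd)
    rw [map_add, Finsupp.weight_single, one_smul] at h1 h2
    simp only [Prod.fst_add, Prod.snd_add, Nat.cast_add, wt] at h1 h2
    exact ⟨eq_sub_of_add_eq h1, eq_sub_of_add_eq h2⟩
  · exact Hm.zero _ _

theorem Hm.cast {P : RelRing g} {a b a' b' : ℤ} (h : Hm g P a b) (ha : a = a') (hb : b = b') :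
    Hm g P a' b' := ha ▸ hb ▸ h

/-- `F` lowers the first degree by two. -/
theorem Hm.F {P : RelRing g} {a b : ℤ} (hP : Hm g P a b) : Hm g (W4c3tautjacobian.F g P) (a - 2) b := by
  refine (Hm.smul _ (Hm.sum _ _ fun p _ => Hm.sum _ _ fun q _ => ?_)).add (Hm.sum _ _ fun p _ => ?_)
  · have hd := (hP.dv q).dv p
    refine ((Hm.sub ?_ ?_).mul hd).cast (a' := a - 2) (b' := b)
      (a := ((p.1 : ℤ) + q.1 - 2) + (a - q.1 - p.1)) (b := ((p.2 : ℤ) + q.2) + (b - q.2 - p.2)) (by ring) (by ring)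
    · refine (((Hm.X none).mul (Hm.xv _ _)).mul (Hm.xv _ _)).cast ?_ ?_ <;> simp [wt] <;> ring
    · exact ((Hm.natCast _).mul (Hm.xv _ _)).cast (zero_add _) (zero_add _)
  · exact ((Hm.xv _ _).mul (hP.dv p)).cast (by ring) (by ring)

theorem Hm.eq_zero_of_neg {P : RelRing g} {a b : ℤ} (hP : Hm g P a b) (ha : a < 0) : P = 0 := by
  ext d
  rw [coeff_zero]
  by_contra h
  have := (hP d h).1
  omega

theorem Hm.iterate {P : RelRing g} {a b : ℤ} (hP : Hm g P a b) :
    ∀ k : ℕ, Hm g ((W4c3tautjacobian.F g)^[k] P) (a - 2 * k) b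
  | 0 => hP.cast (by simp) rfl
  | k + 1 => by
    rw [Function.iterate_succ_apply']
    exact (Hm.iterate hP k).F.cast (by push_cast; ring) rfl

theorem F_add (P Q : RelRing g) : F g (P + Q) = F g P + F g Q := by
  unfold F
  have h : ∀ p (R R' : RelRing g), dv g p (R + R') = dv g p R + dv g p R' := fun p R R' => by
    unfold dv; split_ifs <;> simp
  simp only [h, mul_add, Finset.sum_add_distrib, smul_add]
  abel

theorem F_smul (c : ℚ) (P : RelRing g) : F g (c • P) = c • F g P := by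
  unfold F
  have h : ∀ p (R : RelRing g), dv g p (c • R) = c • dv g p R := fun p R => by
    unfold dv; split_ifs <;> simp
  simp only [h, mul_smul_comm, ← Finset.smul_sum, smul_add]
  rw [smul_comm]

theorem dv_mul (p : ℕ × ℕ) (P Q : RelRing g) :
    dv g p (P * Q) = dv g p P * Q + P * dv g p Q := by
  unfold dv
  split_ifs
  · rw [Derivation.leibniz]; simp only [smul_eq_mul]; ring
  · ring

theorem dv_zero (p : ℕ × ℕ) : dv g p (0 : RelRing g) = 0 := by
  unfold dv; split_ifs <;> simp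

theorem dv_one (p : ℕ × ℕ) : dv g p (1 : RelRing g) = 0 := by
  unfold dv; split_ifs <;> simp

theorem valid_two_zero (hg : 1 ≤ g) : Valid g (2, 0) :=
  ⟨le_rfl, by omega, ⟨1, rfl⟩, by simp⟩

theorem dv_x20 (hg : 1 ≤ g) (p : ℕ × ℕ) : dv g p (xv g 2 0) = if p = (2, 0) then 1 else 0 := by
  classical
  have hx : xv g 2 0 = MvPolynomial.X (some ⟨(2, 0), valid_two_zero hg⟩) := by
    unfold xv
    rw [if_neg (by simp), dif_pos ⟨by norm_num, le_rfl, valid_two_zero hg⟩]
    rfl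
  rw [hx]
  unfold dv
  split_ifs with h1 h2 h2
  · subst h2; simp
  · rw [pderiv_X_of_ne]; simp [Ne.symm h2]
  · subst h2; exact absurd (valid_two_zero hg) h1
  · rfl

theorem mem_idx {p : ℕ × ℕ} (h : Valid g p) : p ∈ idx g := by
  obtain ⟨h1, h2, -, -⟩ := h
  simp only [idx, Finset.mem_product, Finset.mem_range]
  omega

/-- Euler's identity for the first degree. -/
theorem euler {P : RelRing g} {a b : ℤ} (hP : Hm g P a b) :
    ∑ p ∈ idx g, (p.1 : RelRing g) * (xv g p.1 p.2 * dv g p P) = MvPolynomial.C (a : ℚ) * P := by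
  classical
  by_cases ha : a < 0
  · rw [hP.eq_zero_of_neg ha, mul_zero]
    refine Finset.sum_eq_zero fun p _ => ?_
    rw [dv_zero, mul_zero, mul_zero]
  obtain ⟨n, rfl⟩ : ∃ n : ℕ, a = n := ⟨a.toNat, by omega⟩
  have hh : IsWeightedHomogeneous (fun v => (wt g v).1) P n := by
    intro d hd
    have h := (hP d hd).1
    have e : Finsupp.weight (fun v => (wt g v).1) d = (Finsupp.weight (wt g) d).1 := by
      simp [Finsupp.weight_apply, Finsupp.sum, Prod.fst_sum]
    rw [e]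
    exact_mod_cast h
  letI : Fintype {p : ℕ × ℕ // Valid g p} :=
    Fintype.subtype ((idx g).filter (Valid g)) fun p => by
      simp only [Finset.mem_filter]; exact ⟨fun h => h.2, fun h => ⟨mem_idx h, h⟩⟩
  have hE := hh.sum_weight_X_mul_pderiv
  rw [Fintype.sum_option] at hE
  simp only [wt, zero_smul, zero_add] at hE
  rw [Int.cast_natCast, map_natCast, ← nsmul_eq_mul, ← hE,
    ← Finset.sum_subset (s₁ := (idx g).filter (Valid g)) (Finset.filter_subset _ _)
      (fun p hp hnp => by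
        have : ¬ Valid g p := fun h => hnp (Finset.mem_filter.2 ⟨hp, h⟩)
        rw [dv, dif_neg this, mul_zero, mul_zero])]
  refine Finset.sum_bij (fun p hp => (⟨p, (Finset.mem_filter.1 hp).2⟩ : {p : ℕ × ℕ // Valid g p}))
    (fun _ _ => Finset.mem_univ _) (fun _ _ _ _ h => congrArg Subtype.val h)
    (fun v _ => ⟨v.1, Finset.mem_filter.2 ⟨mem_idx v.2, v.2⟩, rfl⟩) (fun p hp => ?_)
  have hv := (Finset.mem_filter.1 hp).2
  rw [nsmul_eq_mul, dv, dif_pos hv]
  congr 2
  unfold xv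
  rw [if_neg (fun h => hv.2.2.2 (Prod.ext (by exact_mod_cast h.1) (by exact_mod_cast h.2))),
    dif_pos (show 0 ≤ (p.1 : ℤ) ∧ 0 ≤ (p.2 : ℤ) ∧ Valid g ((p.1 : ℤ).toNat, (p.2 : ℤ).toNat) from
      ⟨Int.natCast_nonneg _, Int.natCast_nonneg _, by simpa using hv⟩)]
  simp

theorem mergeCoeff_two_right (i : ℕ) : mergeCoeff i 2 = i := by
  rcases i with _ | i
  · simp [mergeCoeff]
  · simp [mergeCoeff]

theorem mergeCoeff_two_left (i : ℕ) : mergeCoeff 2 i = i := by
  rcases i with _ | i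
  · simp [mergeCoeff]
  · simp [mergeCoeff]

/-- The commutator of `F` and `E`. -/
theorem F_E (hg : 1 ≤ g) {P : RelRing g} {a b : ℤ} (hP : Hm g P a b) :
    F g (E g P) = E g (F g P) + MvPolynomial.C ((g : ℚ) - a) * P := by
  classical
  set e := xv g 2 0 with he
  let c : ℕ × ℕ → ℕ × ℕ → RelRing g := fun p q =>
    MvPolynomial.X none * xv g ((p.1 : ℤ) - 1) ((p.2 : ℤ) - 1) * xv g ((q.1 : ℤ) - 1) ((q.2 : ℤ) - 1)
      - (mergeCoeff p.1 q.1 : RelRing g) * xv g ((p.1 : ℤ) + q.1 - 2) ((p.2 : ℤ) + q.2)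
  have h2 : ∀ p q, dv g p (dv g q (e * P)) =
      e * dv g p (dv g q P) + ((if q = (2, 0) then dv g p P else 0) + (if p = (2, 0) then dv g q P else 0)) := by
    intro p q
    rw [dv_mul, he, dv_x20 hg]
    have : ∀ R R' : RelRing g, dv g p (R + R') = dv g p R + dv g p R' := fun R R' => by
      unfold dv; split_ifs <;> simp
    rw [this, dv_mul p, dv_mul p, dv_x20 hg]
    split_ifs <;> simp [dv_one, dv_zero] <;> ring
  have hxv : ∀ p : ℕ × ℕ, xv g 1 (-1) = 0 ∧ True := fun p => ⟨by unfold xv; simp, trivial⟩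
  have hm1 : xv g 1 (-1) = 0 := (hxv (0, 0)).1
  have hr : ∀ p : ℕ × ℕ, c p (2, 0) = -((p.1 : RelRing g) * xv g p.1 p.2) := fun p => by
    simp only [c]
    norm_num [hm1, mergeCoeff_two_right]
  have hl : ∀ p : ℕ × ℕ, c (2, 0) p = -((p.1 : RelRing g) * xv g p.1 p.2) := fun p => by
    simp only [c]
    norm_num [hm1, mergeCoeff_two_left]
  have hmem : ((2, 0) : ℕ × ℕ) ∈ idx g := mem_idx (valid_two_zero hg)
  have hsec : (∑ p ∈ idx g, ∑ q ∈ idx g, c p q * dv g p (dv g q (e * P))) =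
      e * (∑ p ∈ idx g, ∑ q ∈ idx g, c p q * dv g p (dv g q P)) - 2 * (MvPolynomial.C (a : ℚ) * P) := by
    simp only [h2, mul_add, Finset.sum_add_distrib]
    have e1 : (∑ p ∈ idx g, ∑ q ∈ idx g, c p q * (if q = (2, 0) then dv g p P else 0)) =
        -(MvPolynomial.C (a : ℚ) * P) := by
      rw [← euler hP, ← Finset.sum_neg_distrib]
      refine Finset.sum_congr rfl fun p _ => ?_
      simp only [mul_ite, mul_zero]
      rw [Finset.sum_ite_eq' (idx g) ((2, 0) : ℕ × ℕ), if_pos hmem, hr, neg_mul, mul_assoc]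
    have e2 : (∑ p ∈ idx g, ∑ q ∈ idx g, c p q * (if p = (2, 0) then dv g q P else 0)) =
        -(MvPolynomial.C (a : ℚ) * P) := by
      rw [Finset.sum_comm, ← euler hP, ← Finset.sum_neg_distrib]
      refine Finset.sum_congr rfl fun p _ => ?_
      simp only [mul_ite, mul_zero]
      rw [Finset.sum_ite_eq' (idx g) ((2, 0) : ℕ × ℕ), if_pos hmem, hl, neg_mul, mul_assoc]
    rw [e1, e2]
    simp only [Finset.mul_sum, mul_left_comm e]
    ring
  have hfst : (∑ p ∈ idx g, xv g ((p.1 : ℤ) - 2) (p.2 : ℤ) * dv g p (e * P)) =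
      e * (∑ p ∈ idx g, xv g ((p.1 : ℤ) - 2) (p.2 : ℤ) * dv g p P) + (g : RelRing g) * P := by
    simp only [he, dv_mul, dv_x20 hg, mul_add, Finset.sum_add_distrib]
    have e3 : (∑ p ∈ idx g, xv g ((p.1 : ℤ) - 2) (p.2 : ℤ) * ((if p = (2, 0) then 1 else 0) * P)) =
        (g : RelRing g) * P := by
      simp only [ite_mul, one_mul, zero_mul, mul_ite, mul_zero]
      rw [Finset.sum_ite_eq' (idx g) ((2, 0) : ℕ × ℕ), if_pos hmem]
      congr 1
    rw [e3, Finset.mul_sum]
    simp only [mul_left_comm]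
    ring
  show (1 / 2 : ℚ) • (∑ p ∈ idx g, ∑ q ∈ idx g, c p q * dv g p (dv g q (e * P))) +
      (∑ p ∈ idx g, xv g ((p.1 : ℤ) - 2) (p.2 : ℤ) * dv g p (e * P)) =
    e * ((1 / 2 : ℚ) • (∑ p ∈ idx g, ∑ q ∈ idx g, c p q * dv g p (dv g q P)) +
      (∑ p ∈ idx g, xv g ((p.1 : ℤ) - 2) (p.2 : ℤ) * dv g p P)) + _
  rw [hsec, hfst, smul_sub, mul_add, mul_smul_comm, map_sub, map_natCast, sub_mul]
  have : (1 / 2 : ℚ) • (2 * (MvPolynomial.C (a : ℚ) * P)) = MvPolynomial.C (a : ℚ) * P := by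
    rw [two_mul, ← two_smul ℚ (MvPolynomial.C (a : ℚ) * P), smul_smul]
    norm_num
  rw [this]
  ring

/-- Iterates of `F` past `E`. -/
theorem iterate_F_E (hg : 1 ≤ g) {P : RelRing g} {a b : ℤ} (hP : Hm g P a b) : ∀ k : ℕ,
    (F g)^[k + 1] (E g P) = E g ((F g)^[k + 1] P) +
      ((k + 1 : ℚ) * (g - a) + k * (k + 1)) • (F g)^[k] P
  | 0 => by
    simp only [Function.iterate_one, Function.iterate_zero_apply, zero_add]
    rw [F_E hg hP]
    simp [MvPolynomial.smul_eq_C_mul]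
  | k + 1 => by
    rw [Function.iterate_succ_apply' _ (k + 1), iterate_F_E hg hP k, F_add, F_smul,
      F_E hg (hP.iterate (k + 1)), ← Function.iterate_succ_apply' (F g) (k + 1),
      ← Function.iterate_succ_apply' (F g) k, ← MvPolynomial.smul_eq_C_mul, add_assoc, ← add_smul]
    congr 2
    push_cast
    ring

end Groth.Agent.TautJac
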