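import Mathlib
import Groth.Agent.TautJac.Basic

/-!
# A sign cone preserved by `F`, and the leading linear coefficient of iterates
-/

namespace Groth.Agent.TautJac

open MvPolynomial W4c3tautjacobian

variable {g N : ℕ}

/-- The sign attached to an exponent. -/
noncomputable def sgn (N : ℕ) (d : Var g →₀ ℕ) : ℚ := (-1) ^ (N + d.degree)

/-- Exponents without variables of second degree zero. -/
def Good (d : Var g →₀ ℕ) : Prop := ∀ v ∈ d.support, 1 ≤ (wt g v).2

/-- Modulo `y`: alternating signs by the number of factors, no variable of second degree zero. -/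
def Cone (N : ℕ) (P : RelRing g) : Prop :=
  ∀ d, coeff d P ≠ 0 → d none = 0 → Good d ∧ 0 ≤ sgn N d * coeff d P

theorem Cone.zero : Cone N (0 : RelRing g) := fun d h => absurd (coeff_zero d) h

theorem Cone.add {P Q : RelRing g} (hP : Cone N P) (hQ : Cone N Q) : Cone N (P + Q) := by
  intro d h h0
  rw [coeff_add] at h ⊢
  by_cases h1 : coeff d P = 0
  · rw [h1, zero_add] at h ⊢; exact hQ d h h0
  by_cases h2 : coeff d Q = 0
  · rw [h2, add_zero]; exact hP d h1 h0
  rw [mul_add]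
  exact ⟨(hP d h1 h0).1, add_nonneg (hP d h1 h0).2 (hQ d h2 h0).2⟩

theorem Cone.smul {P : RelRing g} {c : ℚ} (hc : 0 ≤ c) (hP : Cone N P) : Cone N (c • P) := by
  intro d h h0
  rw [coeff_smul, smul_eq_mul] at h ⊢
  obtain ⟨h1, h2⟩ := hP d (right_ne_zero_of_mul h) h0
  exact ⟨h1, by rw [mul_left_comm]; exact mul_nonneg hc h2⟩

theorem Cone.sum {ι : Type*} (s : Finset ι) (P : ι → RelRing g) (h : ∀ i ∈ s, Cone N (P i)) :
    Cone N (∑ i ∈ s, P i) := by
  classical
  induction s using Finset.induction_on with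
  | empty => simpa using Cone.zero
  | insert i s hi ih =>
    rw [Finset.sum_insert hi]
    exact (h i (Finset.mem_insert_self _ _)).add (ih fun j hj => h j (Finset.mem_insert_of_mem hj))

theorem Cone.y_mul (Q : RelRing g) : Cone N (X none * Q) := by
  classical
  intro d h h0
  rw [coeff_X_mul'] at h
  rw [if_neg (by simp [h0])] at h
  exact absurd rfl h

theorem Cone.monomial {d : Var g →₀ ℕ} {c : ℚ} (hd : Good d) (hc : 0 ≤ sgn N d * c) :
    Cone N (MvPolynomial.monomial d c) := by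
  classical
  intro e h _
  rw [coeff_monomial] at h ⊢
  split_ifs at h ⊢ with he
  · subst he; exact ⟨hd, hc⟩
  · exact absurd rfl h

/-- The terms of the second order part. -/
noncomputable def T2 (P : RelRing g) (p q : ℕ × ℕ) : RelRing g :=
  (X none * xv g ((p.1 : ℤ) - 1) ((p.2 : ℤ) - 1) * xv g ((q.1 : ℤ) - 1) ((q.2 : ℤ) - 1)
    - (mergeCoeff p.1 q.1 : RelRing g) * xv g ((p.1 : ℤ) + q.1 - 2) ((p.2 : ℤ) + q.2))
    * dv g p (dv g q P)

/-- The terms of the first order part. -/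
noncomputable def T1 (P : RelRing g) (p : ℕ × ℕ) : RelRing g :=
  xv g ((p.1 : ℤ) - 2) (p.2 : ℤ) * dv g p P

theorem F_eq (P : RelRing g) :
    F g P = (1 / 2 : ℚ) • (∑ p ∈ idx g, ∑ q ∈ idx g, T2 P p q) + ∑ p ∈ idx g, T1 P p := rfl

theorem xv_cases (s t : ℤ) (ht : 1 ≤ t) :
    xv g s t = 0 ∨ ∃ v : {p : ℕ × ℕ // Valid g p}, xv g s t = X (some v) ∧ (v.1.2 : ℤ) = t := by
  unfold xv
  rw [if_neg (by omega)]
  split_ifs with h
  · exact Or.inr ⟨_, rfl, Int.toNat_of_nonneg h.2.1⟩
  · exact Or.inl rfl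

theorem xv_valid {p : ℕ × ℕ} (hv : Valid g p) : xv g (p.1 : ℤ) (p.2 : ℤ) = X (some ⟨p, hv⟩) := by
  unfold xv
  rw [if_neg (fun h => hv.2.2.2 (Prod.ext (by exact_mod_cast h.1) (by exact_mod_cast h.2))),
    dif_pos (show 0 ≤ (p.1 : ℤ) ∧ 0 ≤ (p.2 : ℤ) ∧ Valid g ((p.1 : ℤ).toNat, (p.2 : ℤ).toNat) from
      ⟨Int.natCast_nonneg _, Int.natCast_nonneg _, by simpa using hv⟩)]
  simp

theorem dv_monomial {p : ℕ × ℕ} (hv : Valid g p) (d : Var g →₀ ℕ) (c : ℚ) :
    dv g p (MvPolynomial.monomial d c) =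
      MvPolynomial.monomial (d - Finsupp.single (some ⟨p, hv⟩) 1) (c * d (some ⟨p, hv⟩)) := by
  rw [dv, dif_pos hv, pderiv_monomial]

theorem Good.sub {d : Var g →₀ ℕ} (hd : Good d) (e : Var g →₀ ℕ) : Good (d - e) := fun v hv =>
  hd v (Finsupp.support_tsub hv)

theorem Good.single_add {d : Var g →₀ ℕ} (hd : Good d) {v : Var g} (hv : 1 ≤ (wt g v).2) :
    Good (Finsupp.single v 1 + d) := by
  classical
  intro w hw
  rcases Finset.mem_union.1 (Finsupp.support_add hw) with h | h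
  · rw [Finset.mem_singleton.1 (Finsupp.support_single_subset h)]; exact hv
  · exact hd w h

theorem degree_sub_single {d : Var g →₀ ℕ} {v : Var g} (h : 1 ≤ d v) :
    (d - Finsupp.single v 1).degree + 1 = d.degree := by
  conv_rhs => rw [← tsub_add_cancel_of_le (Finsupp.single_le_iff.2 h)]
  rw [map_add, Finsupp.degree_single]

theorem y_dvd_monomial {d : Var g →₀ ℕ} (c : ℚ) (h : d none ≠ 0) :
    ∃ Q : RelRing g, MvPolynomial.monomial d c = X none * Q :=
  ⟨MvPolynomial.monomial (d - Finsupp.single none 1) c, by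
    rw [X, monomial_mul, one_mul, add_tsub_cancel_of_le (Finsupp.single_le_iff.2 (Nat.one_le_iff_ne_zero.2 h))]⟩

theorem cone_T2_monomial {d : Var g →₀ ℕ} {c : ℚ} (hd : Good d) (hc : 0 ≤ sgn N d * c) (p q : ℕ × ℕ) :
    Cone N (T2 (MvPolynomial.monomial d c) p q) := by
  unfold T2
  by_cases hq : Valid g q
  swap
  · simp [dv, hq]; exact Cone.zero
  by_cases hp : Valid g p
  swap
  · rw [dv, dif_neg hp, mul_zero]; exact Cone.zero
  rw [dv_monomial hq, dv_monomial hp, sub_mul, mul_assoc (X none), mul_assoc (X none), sub_eq_add_neg]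
  refine (Cone.y_mul _).add ?_
  let d1 := d - Finsupp.single (some ⟨q, hq⟩ : Var g) 1
  by_cases hqd : d (some ⟨q, hq⟩) = 0
  · simp [hqd]; exact Cone.zero
  by_cases hpd : d1 (some ⟨p, hp⟩) = 0
  · rw [hpd]; simp; exact Cone.zero
  have hq1 : 1 ≤ q.2 := hd (some ⟨q, hq⟩) (Finsupp.mem_support_iff.2 hqd)
  rcases xv_cases (g := g) ((p.1 : ℤ) + q.1 - 2) ((p.2 : ℤ) + q.2) (by omega) with h | ⟨v, h, hv⟩
  · rw [h, mul_zero, zero_mul, neg_zero]; exact Cone.zero
  rw [h, ← map_natCast (MvPolynomial.C : ℚ →+* RelRing g), mul_assoc, X, monomial_mul, one_mul,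
    C_mul_monomial, ← map_neg]
  refine Cone.monomial (((hd.sub _).sub _).single_add ?_) ?_
  · show 1 ≤ v.1.2
    omega
  · have hdeg : d.degree = (Finsupp.single (some v) 1 + (d1 - Finsupp.single (some ⟨p, hp⟩ : Var g) 1)).degree + 1 := by
      rw [map_add, Finsupp.degree_single, ← degree_sub_single (Nat.one_le_iff_ne_zero.2 hqd),
        ← degree_sub_single (Nat.one_le_iff_ne_zero.2 hpd)]
      ring
    rw [sgn, hdeg, ← Nat.add_assoc, pow_succ] at hc
    have : (0 : ℚ) ≤ mergeCoeff p.1 q.1 * (d (some ⟨q, hq⟩) : ℚ) * (d1 (some ⟨p, hp⟩) : ℚ) := by positivity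
    refine le_of_le_of_eq (mul_nonneg this hc) ?_
    rw [sgn]
    simp only [d1]
    ring

theorem cone_T1_monomial {d : Var g →₀ ℕ} {c : ℚ} (hd : Good d) (hc : 0 ≤ sgn N d * c) (p : ℕ × ℕ) :
    Cone N (T1 (MvPolynomial.monomial d c) p) := by
  unfold T1
  by_cases hp : Valid g p
  swap
  · rw [dv, dif_neg hp, mul_zero]; exact Cone.zero
  rw [dv_monomial hp]
  by_cases hpd : d (some ⟨p, hp⟩) = 0
  · rw [hpd]; simp; exact Cone.zero
  have hp1 : 1 ≤ p.2 := hd (some ⟨p, hp⟩) (Finsupp.mem_support_iff.2 hpd)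
  rcases xv_cases (g := g) ((p.1 : ℤ) - 2) (p.2 : ℤ) (by omega) with h | ⟨v, h, hv⟩
  · rw [h, zero_mul]; exact Cone.zero
  rw [h, X, monomial_mul, one_mul]
  refine Cone.monomial ((hd.sub _).single_add (show 1 ≤ v.1.2 by omega)) ?_
  have hdeg : (Finsupp.single (some v) 1 + (d - Finsupp.single (some ⟨p, hp⟩ : Var g) 1)).degree = d.degree := by
    rw [map_add, Finsupp.degree_single, ← degree_sub_single (Nat.one_le_iff_ne_zero.2 hpd), add_comm]
  rw [sgn, hdeg, ← mul_assoc]
  exact mul_nonneg hc (Nat.cast_nonneg _)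

theorem F_y_mul (Q : RelRing g) : F g (X none * Q) = X none * F g Q := by
  have hy : ∀ p (R : RelRing g), dv g p (X none * R) = X none * dv g p R := fun p R => by
    rw [dv_mul, show dv g p (X none : RelRing g) = 0 by
      unfold dv; split_ifs
      · rw [pderiv_X_of_ne]; simp
      · rfl, zero_mul, zero_add]
  simp only [F, hy, mul_left_comm _ (X none : RelRing g), ← Finset.mul_sum, mul_add, mul_smul_comm]

theorem F_zero : F g (0 : RelRing g) = 0 := by
  have := F_smul (g := g) 0 (0 : RelRing g)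
  simpa using this

theorem F_sum {ι : Type*} (s : Finset ι) (P : ι → RelRing g) :
    F g (∑ i ∈ s, P i) = ∑ i ∈ s, F g (P i) := by
  classical
  induction s using Finset.induction_on with
  | empty => simp [F_zero]
  | insert i s hi ih => rw [Finset.sum_insert hi, Finset.sum_insert hi, F_add, ih]

/-- The cone is preserved by `F`. -/
theorem Cone.F {P : RelRing g} (hP : Cone N P) : Cone N (W4c3tautjacobian.F g P) := by
  conv => arg 2; rw [as_sum P, F_sum]
  refine Cone.sum _ _ fun d hd => ?_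
  by_cases h0 : d none = 0
  · obtain ⟨h1, h2⟩ := hP d (mem_support_iff.1 hd) h0
    rw [F_eq]
    exact (Cone.smul (by norm_num) (Cone.sum _ _ fun p _ => Cone.sum _ _ fun q _ => cone_T2_monomial h1 h2 p q)).add
      (Cone.sum _ _ fun p _ => cone_T1_monomial h1 h2 p)
  · obtain ⟨Q, hQ⟩ := y_dvd_monomial (coeff d P) h0
    rw [hQ, F_y_mul]
    exact Cone.y_mul _

/-- `P` dominates a signed monomial. -/
def Dom (N : ℕ) (P : RelRing g) (d : Var g →₀ ℕ) : Prop :=
  Good d ∧ ∃ a : ℚ, 0 < sgn N d * a ∧ Cone N (P - MvPolynomial.monomial d a)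

theorem F_sub (P Q : RelRing g) : F g (P - Q) = F g P - F g Q := by
  rw [eq_sub_iff_add_eq, ← F_add, sub_add_cancel]

theorem merge_step {P : RelRing g} {d e : Var g →₀ ℕ} {p q r : ℕ × ℕ} (hp : Valid g p) (hq : Valid g q)
    (hr : Valid g r) (hp1 : 1 ≤ p.1) (hq1 : 1 ≤ q.1) (hr1 : r.1 + 2 = p.1 + q.1) (hr2 : r.2 = p.2 + q.2)
    (hd : d = Finsupp.single (some ⟨p, hp⟩) 1 + Finsupp.single (some ⟨q, hq⟩) 1 + e)
    (hP : Dom N P d) : Dom N (W4c3tautjacobian.F g P) (Finsupp.single (some ⟨r, hr⟩) 1 + e) := by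
  classical
  obtain ⟨hgd, a, ha, hC⟩ := hP
  set vp : Var g := some ⟨p, hp⟩
  set vq : Var g := some ⟨q, hq⟩
  set vr : Var g := some ⟨r, hr⟩
  have hd1 : d - Finsupp.single vq 1 = Finsupp.single vp 1 + e := by rw [hd, add_right_comm, add_tsub_cancel_right]
  have hd2 : d - Finsupp.single vq 1 - Finsupp.single vp 1 = e := by rw [hd1, add_tsub_cancel_left]
  have hdq : 1 ≤ d vq := by rw [hd]; simp; omega
  have hdp : 1 ≤ (d - Finsupp.single vq 1 : Var g →₀ ℕ) vp := by rw [hd1]; simp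
  have hm : (0 : ℚ) < mergeCoeff p.1 q.1 := by
    rw [Nat.cast_pos, mergeCoeff, if_neg (by omega)]
    exact Nat.choose_pos (by omega)
  set b : ℚ := -((1 / 2) * mergeCoeff p.1 q.1 * (a * d vq * (d - Finsupp.single vq 1 : Var g →₀ ℕ) vp)) with hb
  refine ⟨?_, b, ?_, ?_⟩
  · refine Good.single_add (v := vr) (fun v hv => hgd v ?_) ?_
    · rw [hd, Finsupp.mem_support_iff]
      rw [Finsupp.mem_support_iff] at hv
      simp only [Finsupp.add_apply]; omega
    · show 1 ≤ r.2
      have := hgd vq (Finsupp.mem_support_iff.2 (by omega))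
      simp only [vq, wt] at this
      omega
  · have hdeg : d.degree = (Finsupp.single vr 1 + e).degree + 1 := by
      rw [hd, map_add, map_add, map_add, Finsupp.degree_single, Finsupp.degree_single, Finsupp.degree_single]
      ring
    rw [sgn, hdeg, ← Nat.add_assoc, pow_succ] at ha
    have : (0 : ℚ) < (1 / 2) * mergeCoeff p.1 q.1 * ((d vq : ℚ) * ((d - Finsupp.single vq 1 : Var g →₀ ℕ) vp : ℕ)) := by
      have h1 : (0 : ℚ) < d vq := Nat.cast_pos.2 hdq
      have h2 : (0 : ℚ) < ((d - Finsupp.single vq 1 : Var g →₀ ℕ) vp : ℕ) := Nat.cast_pos.2 hdp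
      positivity
    refine lt_of_lt_of_eq (mul_pos this ha) ?_
    rw [hb, sgn]
    ring
  · set M : RelRing g := MvPolynomial.monomial d a with hM
    have e1 : W4c3tautjacobian.F g P - MvPolynomial.monomial (Finsupp.single vr 1 + e) b =
        W4c3tautjacobian.F g (P - M) + (W4c3tautjacobian.F g M - MvPolynomial.monomial (Finsupp.single vr 1 + e) b) := by
      rw [F_sub]; ring
    rw [e1]
    refine hC.F.add ?_
    have hsel : (1 / 2 : ℚ) • T2 M p q - MvPolynomial.monomial (Finsupp.single vr 1 + e) b =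
        X none * ((1 / 2 : ℚ) • (xv g ((p.1 : ℤ) - 1) ((p.2 : ℤ) - 1) * xv g ((q.1 : ℤ) - 1) ((q.2 : ℤ) - 1)
          * dv g p (dv g q M))) := by
      have hx : xv g ((p.1 : ℤ) + q.1 - 2) ((p.2 : ℤ) + q.2) = X vr := by
        rw [show ((p.1 : ℤ) + q.1 - 2) = (r.1 : ℤ) by omega, show ((p.2 : ℤ) + q.2) = (r.2 : ℤ) by omega]
        exact xv_valid hr
      rw [T2, hx, hM, dv_monomial hq, dv_monomial hp, sub_mul, smul_sub, hd2,
        ← map_natCast (MvPolynomial.C : ℚ →+* RelRing g), mul_assoc (MvPolynomial.C _),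
        show (X vr : RelRing g) = MvPolynomial.monomial (Finsupp.single vr 1) 1 from rfl, monomial_mul,
        one_mul, C_mul_monomial, smul_monomial, sub_sub, ← map_add, hb, smul_eq_mul]
      rw [show (1 / 2 : ℚ) * (↑(mergeCoeff p.1 q.1) * (a * ↑(d vq) * ↑((d - Finsupp.single vq 1 : Var g →₀ ℕ) vp))) +
        -(1 / 2 * ↑(mergeCoeff p.1 q.1) * (a * ↑(d vq) * ↑((d - Finsupp.single vq 1 : Var g →₀ ℕ) vp))) = 0 by ring,
        map_zero, sub_zero, mul_smul_comm]
      congr 1
      ring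
    have hrest : ∀ p' q', Cone N (T2 M p' q') := fun p' q' => cone_T2_monomial hgd ha.le p' q'
    rw [F_eq, ← Finset.add_sum_erase _ _ (mem_idx hp), ← Finset.add_sum_erase _ _ (mem_idx hq),
      smul_add, smul_add, add_assoc, add_assoc, add_sub_right_comm, hsel]
    exact (Cone.y_mul _).add ((Cone.smul (by norm_num) (Cone.sum _ _ fun q' _ => hrest p q')).add
      ((Cone.smul (by norm_num) (Cone.sum _ _ fun p' _ => Cone.sum _ _ fun q' _ => hrest p' q')).add
        (Cone.sum _ _ fun p' _ => cone_T1_monomial hgd ha.le p')))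

theorem lower_step {P : RelRing g} {d e : Var g →₀ ℕ} {p r : ℕ × ℕ} (hp : Valid g p) (hr : Valid g r)
    (hr1 : r.1 + 2 = p.1) (hr2 : r.2 = p.2)
    (hd : d = Finsupp.single (some ⟨p, hp⟩) 1 + e) (hP : Dom N P d) :
    Dom N (W4c3tautjacobian.F g P) (Finsupp.single (some ⟨r, hr⟩) 1 + e) := by
  classical
  obtain ⟨hgd, a, ha, hC⟩ := hP
  set vp : Var g := some ⟨p, hp⟩
  set vr : Var g := some ⟨r, hr⟩
  have hd1 : d - Finsupp.single vp 1 = e := by rw [hd, add_tsub_cancel_left]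
  have hdp : 1 ≤ d vp := by rw [hd]; simp
  refine ⟨?_, a * d vp, ?_, ?_⟩
  · refine Good.single_add (v := vr) (hd1 ▸ hgd.sub _) ?_
    have := hgd vp (Finsupp.mem_support_iff.2 (by omega))
    simp only [vp, vr, wt] at this ⊢
    omega
  · have hdeg : d.degree = (Finsupp.single vr 1 + e).degree := by
      rw [hd, map_add, map_add, Finsupp.degree_single, Finsupp.degree_single]
    rw [sgn, ← hdeg, ← mul_assoc]
    exact mul_pos ha (Nat.cast_pos.2 hdp)
  · set M : RelRing g := MvPolynomial.monomial d a with hM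
    have e1 : W4c3tautjacobian.F g P - MvPolynomial.monomial (Finsupp.single vr 1 + e) (a * d vp) =
        W4c3tautjacobian.F g (P - M) + (W4c3tautjacobian.F g M - MvPolynomial.monomial (Finsupp.single vr 1 + e) (a * d vp)) := by
      rw [F_sub]; ring
    rw [e1]
    refine hC.F.add ?_
    have hsel : T1 M p - MvPolynomial.monomial (Finsupp.single vr 1 + e) (a * d vp) = 0 := by
      rw [T1, show ((p.1 : ℤ) - 2) = (r.1 : ℤ) by omega, show ((p.2 : ℤ)) = (r.2 : ℤ) by omega, xv_valid hr,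
        hM, dv_monomial hp, hd1, X, monomial_mul, one_mul, sub_self]
    rw [F_eq, ← Finset.add_sum_erase _ (T1 M) (mem_idx hp), ← add_assoc, add_right_comm, add_sub_assoc, hsel, add_zero]
    exact (Cone.smul (by norm_num) (Cone.sum _ _ fun p' _ => Cone.sum _ _ fun q' _ => cone_T2_monomial hgd ha.le p' q')).add
      (Cone.sum _ _ fun p' _ => cone_T1_monomial hgd ha.le p')

/-- A dominated exponent free of `y` has non-zero coefficient. -/
theorem Dom.coeff_ne_zero {P : RelRing g} {d : Var g →₀ ℕ} (h : Dom N P d) (h0 : d none = 0) :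
    coeff d P ≠ 0 := by
  classical
  obtain ⟨-, a, ha, hC⟩ := h
  intro hz
  have h1 : coeff d (P - MvPolynomial.monomial d a) = -a := by simp [hz]
  have h2 : a ≠ 0 := right_ne_zero_of_mul ha.ne'
  have := (hC d (by rw [h1]; simpa using h2) h0).2
  rw [h1] at this
  linarith

end Groth.Agent.TautJac
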